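import Groth.Prelude.Def_HensSch
import Groth.Agent.L05.HensSheaf.Main
import Groth.Agent.L05.Henselization.Pair
import Groth.Agent.L05.Hensel.Perm
import Mathlib.Algebra.TrivSqZeroExt.Basic
import Mathlib.RingTheory.IntegralClosure.IsIntegralClosure.Basic
import Mathlib.RingTheory.TensorProduct.Maps

/-!
# The sheaf property of `M ⊗ H` for henselizations along basic opens

The module case follows from the ring case applied to the trivial extension `A ⊕ M`, which is integral over `A`.
-/

set_option autoImplicit false
set_option linter.style.haveILetI false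

universe u

open TensorProduct

namespace Groth.L15.SphTilde.Alg

variable {A : Type u} [CommRing A]

/-- For a change `A → A'` such that maps out of `A'` inverting the image of `f` are maps out of `A`
inverting `f`, the henselization over `A` is one over `A'`. -/
theorem isHensAway_localize {I : Ideal A} {g : A} {B : Type u} [CommRing B] {φ : A →+* B}
    (h : HensSch.IsHensAway A I g B φ) (f : A) (hf : IsUnit (φ f)) :
    HensSch.IsHensAway (Localization.Away f) (I.map (algebraMap A (Localization.Away f)))
      (algebraMap A _ g) B (IsLocalization.Away.lift (g := φ) f hf) := by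
  have hc := IsLocalization.Away.lift_comp (S := Localization.Away f) (g := φ) f hf
  refine ⟨?_, ?_, fun C _ J k hC hk hku => ?_⟩
  · rw [← RingHom.comp_apply, hc]
    exact h.1
  · rw [Ideal.map_map, hc]
    exact h.2.1
  · obtain ⟨t, ht, htu⟩ := h.2.2 C J (k.comp (algebraMap A _)) hC (by rwa [← Ideal.map_map]) hku
    refine ⟨t, ?_, fun t' ht' => htu t' (show t'.comp φ = k.comp (algebraMap A _) by
      rw [← ht', RingHom.comp_assoc, hc])⟩
    refine IsLocalization.ringHom_ext (Submonoid.powers f) ?_
    rw [RingHom.comp_assoc, hc]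
    exact ht

/-- A henselization along a basic open has the properties used for gluing. -/
theorem isAwayHens_of_isHensAway {I : Ideal A} {g : A} {B : Type u} [CommRing B] [Algebra A B]
    (h : HensSch.IsHensAway A I g B (algebraMap A B)) : Groth.L05.HensSheaf.IsAwayHens I g B := by
  let L := Localization.Away g
  letI : Algebra L B := (IsLocalization.Away.lift (g := algebraMap A B) g h.1).toAlgebra
  have hc : (algebraMap L B).comp (algebraMap A L) = algebraMap A B := IsLocalization.Away.lift_comp g h.1
  haveI : IsScalarTower A L B := IsScalarTower.of_algebraMap_eq' hc.symm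
  have hl := isHensAway_localize h g h.1
  refine Groth.L05.HensSheaf.isAwayHens_of_isPairHenselization I g L B ⟨hl.2.1, fun C _ J k hC hk => ?_⟩
  exact hl.2.2 C J k hC (by rwa [RingHom.algebraMap_toAlgebra] at *) ((IsLocalization.Away.algebraMap_isUnit g).map k)

/-- Henselization along a basic open commutes with integral base change. -/
theorem isHensAway_tensor {I : Ideal A} {g : A} {B : Type u} [CommRing B] [Algebra A B]
    (h : HensSch.IsHensAway A I g B (algebraMap A B)) (A' : Type u) [CommRing A'] [Algebra A A']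
    [Algebra.IsIntegral A A'] :
    HensSch.IsHensAway A' (I.map (algebraMap A A')) (algebraMap A A' g) (A' ⊗[A] B)
      Algebra.TensorProduct.includeLeftRingHom := by
  letI : Algebra B (A' ⊗[A] B) := Algebra.TensorProduct.rightAlgebra
  have hcomm : ∀ a : A, algebraMap A A' a ⊗ₜ[A] (1 : B) = (1 : A') ⊗ₜ[A] algebraMap A B a := fun a => by
    rw [Algebra.algebraMap_eq_smul_one, Algebra.algebraMap_eq_smul_one, TensorProduct.tmul_smul,
      TensorProduct.smul_tmul']
  haveI : Algebra.IsIntegral B (A' ⊗[A] B) := by
    refine ⟨fun z => ?_⟩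
    induction z using TensorProduct.induction_on with
    | zero => exact isIntegral_zero
    | add x y hx hy => exact hx.add hy
    | tmul b s =>
      rw [show b ⊗ₜ[A] s = (b ⊗ₜ[A] (1 : B)) * algebraMap B (A' ⊗[A] B) s by
        show _ = b ⊗ₜ[A] (1 : B) * ((1 : A') ⊗ₜ[A] s)
        simp]
      refine IsIntegral.mul ?_ isIntegral_algebraMap
      obtain ⟨p, hp, hpb⟩ := Algebra.IsIntegral.isIntegral (R := A) b
      refine ⟨p.map (algebraMap A B), hp.map _, ?_⟩
      rw [Polynomial.eval₂_map]
      have e : (algebraMap B (A' ⊗[A] B)).comp (algebraMap A B) =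
          (Algebra.TensorProduct.includeLeftRingHom).comp (algebraMap A A') :=
        RingHom.ext fun a => (hcomm a).symm
      rw [e]
      exact (Polynomial.hom_eval₂ p (algebraMap A A') Algebra.TensorProduct.includeLeftRingHom b).symm.trans
        (by rw [hpb, map_zero])
  refine ⟨?_, ?_, fun C _ J k hC hk hku => ?_⟩
  · show IsUnit ((algebraMap A A' g) ⊗ₜ[A] (1 : B))
    rw [hcomm]
    exact h.1.map (algebraMap B (A' ⊗[A] B))
  · haveI := h.2.1
    have h1 := Groth.L05.henselianRing_map_of_isIntegral (I.map (algebraMap A B)) (A' ⊗[A] B)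
    rw [Ideal.map_map] at h1
    rw [Ideal.map_map]
    convert h1 using 2
    exact RingHom.ext fun a => hcomm a
  · letI : Algebra A C := (k.comp (algebraMap A A')).toAlgebra
    obtain ⟨t, ht, htu⟩ := h.2.2 C J (algebraMap A C) hC
      (by show I.map (k.comp (algebraMap A A')) ≤ J; rwa [← Ideal.map_map]) hku
    let k' : A' →ₐ[A] C := { k with commutes' := fun _ => rfl }
    let t' : B →ₐ[A] C := { t with commutes' := fun a => DFunLike.congr_fun ht a }
    let φ := Algebra.TensorProduct.lift k' t' fun _ _ => Commute.all _ _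
    refine ⟨φ.toRingHom, RingHom.ext fun b => ?_, fun φ₂ hφ₂ => ?_⟩
    · show φ (b ⊗ₜ[A] (1 : B)) = k b
      simp [φ, k']
    · have h1 : φ₂.comp Algebra.TensorProduct.includeRight.toRingHom = t := htu _ <| RingHom.ext fun a => by
        show φ₂ ((1 : A') ⊗ₜ[A] algebraMap A B a) = k (algebraMap A A' a)
        rw [← hcomm]
        exact DFunLike.congr_fun hφ₂ (algebraMap A A' a)
      refine RingHom.ext fun z => ?_
      induction z using TensorProduct.induction_on with
      | zero => simp
      | add x y hx hy => rw [map_add, map_add, hx, hy]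
      | tmul b s =>
        rw [show b ⊗ₜ[A] s = (b ⊗ₜ[A] (1 : B)) * ((1 : A') ⊗ₜ[A] s) by simp, map_mul, map_mul]
        have hb : φ₂ (b ⊗ₜ[A] (1 : B)) = k b := DFunLike.congr_fun hφ₂ b
        have hs : φ₂ ((1 : A') ⊗ₜ[A] s) = t s := DFunLike.congr_fun h1 s
        rw [hb, hs]
        simp [φ, k', t']

section Glue

variable {ι : Type u} {I : Ideal A} {f : A} {g : ι → A}
  {H : Type u} [CommRing H] [Algebra A H] {B : ι → Type u} [∀ i, CommRing (B i)] [∀ i, Algebra A (B i)]
  {C : ι → ι → Type u} [∀ i j, CommRing (C i j)] [∀ i j, Algebra A (C i j)]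

/-- gluing in rings over a basic open -/
theorem existsUnique_glue
    (hcov : I.map (algebraMap A (Localization.Away f)) ⊔
      Ideal.span (Set.range fun i => algebraMap A (Localization.Away f) (g i)) = ⊤)
    (hH : HensSch.IsHensAway A I f H (algebraMap A H))
    (hB : ∀ i, HensSch.IsHensAway A I (g i) (B i) (algebraMap A (B i)))
    (hC : ∀ i j, HensSch.IsHensAway A I (g i * g j) (C i j) (algebraMap A (C i j)))
    (ρ : ∀ i, H →ₐ[A] B i) (a : ∀ i j, B i →ₐ[A] C i j) (b : ∀ i j, B j →ₐ[A] C i j)
    (s : ∀ i, B i) (hs : ∀ i j, a i j (s i) = b i j (s j)) : ∃! x : H, ∀ i, ρ i x = s i := by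
  let L := Localization.Away f
  have hf : ∀ i, IsUnit (algebraMap A (B i) f) := fun i => (ρ i).commutes f ▸ hH.1.map (ρ i)
  have hf' : ∀ i j, IsUnit (algebraMap A (C i j) f) := fun i j => (a i j).commutes f ▸ (hf i).map (a i j)
  letI : Algebra L H := (IsLocalization.Away.lift (g := algebraMap A H) f hH.1).toAlgebra
  letI : ∀ i, Algebra L (B i) := fun i => (IsLocalization.Away.lift (g := algebraMap A (B i)) f (hf i)).toAlgebra
  letI : ∀ i j, Algebra L (C i j) := fun i j =>
    (IsLocalization.Away.lift (g := algebraMap A (C i j)) f (hf' i j)).toAlgebra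
  haveI : IsScalarTower A L H := IsScalarTower.of_algebraMap_eq' (IsLocalization.Away.lift_comp f hH.1).symm
  haveI : ∀ i, IsScalarTower A L (B i) := fun i =>
    IsScalarTower.of_algebraMap_eq' (IsLocalization.Away.lift_comp f (hf i)).symm
  haveI : ∀ i j, IsScalarTower A L (C i j) := fun i j =>
    IsScalarTower.of_algebraMap_eq' (IsLocalization.Away.lift_comp f (hf' i j)).symm
  have hH1 : HensSch.IsHensAway L (I.map (algebraMap A L)) 1 H (algebraMap L H) := by
    have h := isHensAway_localize hH f hH.1
    refine ⟨by rw [map_one]; exact isUnit_one, h.2.1, fun D _ J k hD hk _ => h.2.2 D J k hD hk ?_⟩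
    exact (IsLocalization.Away.algebraMap_isUnit f).map k
  have hH' := isAwayHens_of_isHensAway hH1
  have hB' := fun i => isAwayHens_of_isHensAway (A := L) (isHensAway_localize (hB i) f (hf i))
  have hC' : ∀ i j, Groth.L05.HensSheaf.IsAwayHens (I.map (algebraMap A L))
      (algebraMap A L (g i) * algebraMap A L (g j)) (C i j) := fun i j => by
    rw [← map_mul]
    exact isAwayHens_of_isHensAway (A := L) (isHensAway_localize (hC i j) f (hf' i j))
  let up : ∀ {S T : Type u} [CommRing S] [CommRing T] [Algebra A S] [Algebra A T] [Algebra L S] [Algebra L T]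
      [IsScalarTower A L S] [IsScalarTower A L T], (S →ₐ[A] T) → (S →ₐ[L] T) := fun {S T} _ _ _ _ _ _ _ _ k =>
    { k with
      commutes' := fun l => DFunLike.congr_fun (IsLocalization.ringHom_ext (Submonoid.powers f)
        (j := k.toRingHom.comp (algebraMap L S)) (k := algebraMap L T) (RingHom.ext fun x => by
          show k (algebraMap L S (algebraMap A L x)) = algebraMap L T (algebraMap A L x)
          rw [← IsScalarTower.algebraMap_apply, ← IsScalarTower.algebraMap_apply]
          exact k.commutes x)) l }
  obtain ⟨x, hx⟩ := Groth.L05.HensSheaf.exists_glue (g := fun i => algebraMap A L (g i)) s hcov hH' hB' hC'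
    (fun i j => up (a i j)) (fun i j => up (b i j)) hs (fun i => up (ρ i))
  refine ⟨x, hx, fun y hy => ?_⟩
  obtain ⟨J, hJ⟩ := Groth.L05.HensSheaf.exists_cover (g := fun i => algebraMap A L (g i)) hcov
  exact Groth.L05.HensSheaf.injective_finset hH' hB' (fun i => up (ρ i)) hJ
    fun j _ => (hy j).trans (hx j).symm

variable (M : Type u) [AddCommGroup M] [Module A M]

/-- gluing in `M ⊗ H` over a basic open -/
theorem existsUnique_glue_module
    (hcov : I.map (algebraMap A (Localization.Away f)) ⊔
      Ideal.span (Set.range fun i => algebraMap A (Localization.Away f) (g i)) = ⊤)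
    (hH : HensSch.IsHensAway A I f H (algebraMap A H))
    (hB : ∀ i, HensSch.IsHensAway A I (g i) (B i) (algebraMap A (B i)))
    (hC : ∀ i j, HensSch.IsHensAway A I (g i * g j) (C i j) (algebraMap A (C i j)))
    (ρ : ∀ i, H →ₐ[A] B i) (a : ∀ i j, B i →ₐ[A] C i j) (b : ∀ i j, B j →ₐ[A] C i j)
    (s : ∀ i, B i ⊗[A] M) (hs : ∀ i j, (a i j).toLinearMap.rTensor M (s i) = (b i j).toLinearMap.rTensor M (s j)) :
    ∃! x : H ⊗[A] M, ∀ i, (ρ i).toLinearMap.rTensor M x = s i := by
  letI : Module Aᵐᵒᵖ M := Module.compHom M ((RingHom.id A).fromOpposite fun _ _ => mul_comm _ _)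
  haveI : IsCentralScalar A M := ⟨fun _ _ => rfl⟩
  let A' := TrivSqZeroExt A M
  haveI : Algebra.IsIntegral A A' := ⟨fun z => by
    refine ⟨(Polynomial.X - Polynomial.C z.fst) ^ 2, (Polynomial.monic_X_sub_C _).pow _, ?_⟩
    rw [Polynomial.eval₂_pow, Polynomial.eval₂_sub, Polynomial.eval₂_X, Polynomial.eval₂_C,
      show z - algebraMap A A' z.fst = TrivSqZeroExt.inr z.snd by
        apply TrivSqZeroExt.ext <;> simp [TrivSqZeroExt.algebraMap_eq_inl, A'], sq, TrivSqZeroExt.inr_mul_inr]⟩
  let p : ∀ (S : Type u) [CommRing S] [Algebra A S], A' ⊗[A] S →ₗ[A] S ⊗[A] M := fun S _ _ =>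
    (TensorProduct.comm A M S).toLinearMap ∘ₗ (TrivSqZeroExt.sndHom A M).rTensor S
  let q : ∀ (S : Type u) [CommRing S] [Algebra A S], S ⊗[A] M →ₗ[A] A' ⊗[A] S := fun S _ _ =>
    (TrivSqZeroExt.inrHom A M).rTensor S ∘ₗ (TensorProduct.comm A S M).toLinearMap
  have hpq : ∀ (S : Type u) [CommRing S] [Algebra A S] (z : S ⊗[A] M), p S (q S z) = z := fun S _ _ z => by
    induction z using TensorProduct.induction_on with
    | zero => simp
    | tmul x m => simp [p, q]
    | add z w hz hw => rw [map_add, map_add, hz, hw]
  let T : ∀ {S T : Type u} [CommRing S] [CommRing T] [Algebra A S] [Algebra A T],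
      (S →ₐ[A] T) → (A' ⊗[A] S →ₐ[A'] A' ⊗[A] T) := fun k => Algebra.TensorProduct.map (AlgHom.id A' A') k
  have hq : ∀ {S T' : Type u} [CommRing S] [CommRing T'] [Algebra A S] [Algebra A T'] (k : S →ₐ[A] T')
      (z : S ⊗[A] M), T k (q S z) = q T' (k.toLinearMap.rTensor M z) := fun {S T'} _ _ _ _ k z => by
    induction z using TensorProduct.induction_on with
    | zero => simp
    | tmul x m => simp [q, T]
    | add z w hz hw => rw [map_add, map_add, hz, hw, map_add, map_add]
  have hp : ∀ {S T' : Type u} [CommRing S] [CommRing T'] [Algebra A S] [Algebra A T'] (k : S →ₐ[A] T')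
      (z : A' ⊗[A] S), p T' (T k z) = k.toLinearMap.rTensor M (p S z) := fun {S T'} _ _ _ _ k z => by
    induction z using TensorProduct.induction_on with
    | zero => simp
    | tmul x m => simp [p, T]
    | add z w hz hw => rw [map_add, map_add, hz, hw, map_add, map_add]
  let L := Localization.Away (algebraMap A A' f)
  have hcov' : (I.map (algebraMap A A')).map (algebraMap A' L) ⊔
      Ideal.span (Set.range fun i => algebraMap A' L (algebraMap A A' (g i))) = ⊤ := by
    let l : Localization.Away f →+* L := IsLocalization.Away.lift (g := (algebraMap A' L).comp (algebraMap A A')) f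
      (IsLocalization.Away.algebraMap_isUnit (S := L) (algebraMap A A' f))
    have hl : l.comp (algebraMap A (Localization.Away f)) = (algebraMap A' L).comp (algebraMap A A') :=
      IsLocalization.Away.lift_comp _ _
    have h := congrArg (Ideal.map l) hcov
    rw [Ideal.map_sup, Ideal.map_top, Ideal.map_map, hl, ← Ideal.map_map, Ideal.map_span, ← Set.range_comp] at h
    rw [← h]
    congr 2
    exact congrArg Set.range (funext fun i => (RingHom.congr_fun hl (g i)).symm)
  obtain ⟨x, hx, hxu⟩ := existsUnique_glue (A := A') (I := I.map (algebraMap A A')) (f := algebraMap A A' f)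
    (g := fun i => algebraMap A A' (g i)) hcov' (isHensAway_tensor hH A') (fun i => isHensAway_tensor (hB i) A')
    (fun i j => by rw [← map_mul]; exact isHensAway_tensor (hC i j) A') (fun i => T (ρ i))
    (fun i j => T (a i j)) (fun i j => T (b i j)) (fun i => q (B i) (s i))
    (fun i j => by rw [hq, hq, hs])
  refine ⟨p H x, fun i => by rw [← hp, hx i, hpq], fun y hy => ?_⟩
  rw [← hpq H y, hxu (q H y) fun i => by rw [hq, hy i]]

end Glue

end Groth.L15.SphTilde.Alg
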