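import Groth.Agent.L15.SphTilde.Sec
import Mathlib.CategoryTheory.Adjunction.FullyFaithful
import Mathlib.Topology.Sheaves.SheafCondition.UniqueGluing

/-!
# Base change, full faithfulness and finite push-forward for `M~` on affine henselian spectra
-/

set_option autoImplicit false
set_option linter.style.haveILetI false
set_option backward.isDefEq.respectTransparency false
set_option backward.isDefEq.respectTransparency.types false

universe u

open CategoryTheory Opposite TopologicalSpace AlgebraicGeometry TensorProduct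
open Groth.L05.HensSch

noncomputable section

namespace Groth.L15.SphTilde

variable {A : Type u} [CommRing A] {X : LocallyRingedSpace.{u}} (π : X ⟶ HensSch.specLRS A) {I : Ideal A}

theorem existsUnique_sections (hX : HensSch.IsSph A I X π) (M : ModuleCat.{u} A) (f : A) (P : Type u)
    [AddCommGroup P] [Module (H π f) P] (ψ : M →+ P)
    (hψ : ∀ (a : A) (m : M), ψ (a • m) = HensSch.secMap π (PrimeSpectrum.basicOpen f) a • ψ m) :
    ∃! χ : ((Stalk.pre (MT π M)).obj (op (HensSch.dOpen π f))) →ₗ[H π f] P,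
      ∀ m : M, χ (mres (MT π M) (le_T₀ π f) (θ π M m)) = ψ m := by
  let e : H π f ⊗[A] M ≃ₗ[H π f] (Stalk.pre (MT π M)).obj (op (HensSch.dOpen π f)) :=
    LinearEquiv.ofBijective
      ({ toFun := α₀ π M f, map_add' := map_add _, map_smul' := α₀_smul π M f } :
        H π f ⊗[A] M →ₗ[H π f] (Stalk.pre (MT π M)).obj (op (HensSch.dOpen π f)))
      (α₀_bijective π M hX)
  have he : ∀ m : M, e ((1 : H π f) ⊗ₜ m) = mres (MT π M) (le_T₀ π f) (θ π M m) := fun m =>
    (α₀_tmul π M f 1 m).trans (one_smul _ _)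
  letI : Module A P := Module.compHom P (HensSch.secMap π (PrimeSpectrum.basicOpen f))
  haveI : IsScalarTower A (H π f) P := IsScalarTower.of_algebraMap_smul fun _ _ => rfl
  let ψ' : M →ₗ[A] P := { toFun := ψ, map_add' := ψ.map_add, map_smul' := fun a m => hψ a m }
  refine ⟨(ψ'.liftBaseChange (H π f)).comp e.symm.toLinearMap, fun m => ?_, fun χ hχ => ?_⟩
  · show ψ'.liftBaseChange (H π f) (e.symm _) = ψ m
    rw [← he, e.symm_apply_apply, LinearMap.liftBaseChange_tmul, one_smul]
    rfl
  · refine LinearMap.ext fun x => ?_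
    obtain ⟨z, rfl⟩ := e.surjective x
    show χ (e z) = ψ'.liftBaseChange (H π f) (e.symm (e z))
    rw [e.symm_apply_apply]
    induction z using TensorProduct.induction_on with
    | zero => rw [map_zero, map_zero, map_zero]
    | tmul b m =>
      rw [show b ⊗ₜ[A] m = b • ((1 : H π f) ⊗ₜ[A] m) by rw [TensorProduct.smul_tmul', smul_eq_mul, mul_one],
        map_smul, map_smul, map_smul, he, hχ, LinearMap.liftBaseChange_tmul, one_smul]
      rfl
    | add z w hz hw => rw [map_add, map_add, map_add, hz, hw]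

theorem secMap_one_bijective [hA : HenselianRing A I] (hX : HensSch.IsSph A I X π) :
    Function.Bijective (HensSch.secMap π (PrimeSpectrum.basicOpen (1 : A))) := by
  set φ := HensSch.secMap π (PrimeSpectrum.basicOpen (1 : A))
  have h := hX.2.2 1
  obtain ⟨k, hk, -⟩ := h.2.2 A I (RingHom.id A) hA (Ideal.map_id I).le isUnit_one
  obtain ⟨t, -, htu⟩ := h.2.2 _ (I.map φ) φ h.2.1 le_rfl h.1
  have h1 : φ.comp k = RingHom.id _ :=
    (htu _ (show (φ.comp k).comp φ = φ by rw [RingHom.comp_assoc, hk, RingHom.comp_id])).trans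
      (htu _ (RingHom.id_comp φ)).symm
  exact ⟨fun a b hab => (RingHom.congr_fun hk a).symm.trans ((congrArg k hab).trans (RingHom.congr_fun hk b)),
    fun b => ⟨k b, RingHom.congr_fun h1 b⟩⟩

theorem mres_bijective_of_eq (G : ModSite.Mod X.sheaf) {U V : Opens X} (h : V ≤ U) (e : U = V) :
    Function.Bijective (mres G h) := by
  subst e
  have : mres G h = id := funext fun x => by
    show ((Stalk.pre G).map (𝟙 (op U))).hom x = x
    rw [(Stalk.pre G).map_id]
    rfl
  rw [this]
  exact Function.bijective_id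

theorem θ_bijective [HenselianRing A I] (hX : HensSch.IsSph A I X π) (M : ModuleCat.{u} A) :
    Function.Bijective (θ π M) := by
  let e : A ≃ₗ[A] H π (1 : A) :=
    LinearEquiv.ofBijective (Algebra.linearMap A (H π (1 : A))) (secMap_one_bijective π hX)
  let E := (TensorProduct.lid A M).symm ≪≫ₗ e.rTensor M
  have h : (fun m => mres (MT π M) (le_T₀ π 1) (θ π M m)) = fun m => α₀ π M 1 (E m) := funext fun m => by
    show _ = α₀ π M 1 (algebraMap A (H π (1 : A)) 1 ⊗ₜ m)
    rw [α₀_tmul, map_one, one_smul]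
  refine (mres_bijective_of_eq (MT π M) (le_T₀ π 1) ?_).of_comp_iff' (θ π M) |>.mp ?_
  · exact TopologicalSpace.Opens.ext (Set.ext fun v => ⟨fun _ => (Ideal.ne_top_iff_one _).mp (π.base v : PrimeSpectrum A).2.ne_top, fun _ => trivial⟩)
  · show Function.Bijective fun m => mres (MT π M) (le_T₀ π 1) (θ π M m)
    rw [h]
    exact (α₀_bijective π M hX).comp E.bijective

theorem full_faithful [HenselianRing A I] (hX : HensSch.IsSph A I X π) :
    (HensSch.sphTildeFunctor π).Full ∧ (HensSch.sphTildeFunctor π).Faithful := by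
  haveI : ∀ M : ModuleCat.{u} A, IsIso ((adjC π).unit.app M) := fun M => by
    rw [ConcreteCategory.isIso_iff_bijective]
    exact θ_bijective π hX M
  haveI : IsIso (adjC π).unit := NatIso.isIso_of_isIso_app _
  exact ⟨(adjC π).fullyFaithfulLOfIsIsoUnit.full, (adjC π).fullyFaithfulLOfIsIsoUnit.faithful⟩

theorem isIso_of_basis (hX : HensSch.IsSph A I X π) {P Q : ModSite.Mod X.sheaf} (Φ : P ⟶ Q)
    (h : ∀ f : A, Function.Bijective (Φ.val.app (op (HensSch.dOpen π f))).hom) : IsIso Φ := by
  have hnat : ∀ {U V : Opens X} (hle : V ≤ U) (x : (Stalk.pre P).obj (op U)),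
      (Φ.val.app (op V)).hom (mres P hle x) = mres Q hle ((Φ.val.app (op U)).hom x) := fun {U V} hle x =>
    ConcreteCategory.congr_hom (((PresheafOfModules.toPresheaf _).map Φ.val).naturality (homOfLE hle).op) x
  have hinj : ∀ U : Opens X, Function.Injective (Φ.val.app (op U)).hom := fun U => by
    rw [injective_iff_map_eq_zero]
    intro s hs
    refine Stalk.section_ext P _ _ fun v hv => ?_
    obtain ⟨g, hg, hle⟩ := StalkHens.exists_basic hX v U hv
    have h0 : mres P hle s = 0 := (h g).1 (by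
      refine (hnat hle s).trans ?_
      rw [hs, map_zero]
      exact map_zero _)
    refine (Stalk.germ_res P v (homOfLE hle) hg s).symm.trans ((congrArg (Stalk.germ P v hg) h0).trans ?_)
    rw [map_zero, map_zero]
  have hbij : ∀ U : Opens X, Function.Bijective (Φ.val.app (op U)).hom := fun U => by
    refine ⟨hinj U, fun t => ?_⟩
    have key : ∀ v : {v : X // v ∈ U}, ∃ (g : A) (_ : v.1 ∈ HensSch.dOpen π g) (hle : HensSch.dOpen π g ≤ U)
        (s : (Stalk.pre P).obj (op (HensSch.dOpen π g))), (Φ.val.app (op (HensSch.dOpen π g))).hom s = mres Q hle t := by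
      rintro ⟨v, hv⟩
      obtain ⟨g, hg, hle⟩ := StalkHens.exists_basic hX v U hv
      obtain ⟨s, hs⟩ := (h g).2 (mres Q hle t)
      exact ⟨g, hg, hle, s, hs⟩
    choose g hg hle s hs using key
    let F : TopCat.Sheaf Ab.{u} X.toTopCat := ⟨PresheafOfModules.presheaf (Stalk.pre P), P.isSheaf⟩
    obtain ⟨x, hx, -⟩ := F.existsUnique_gluing' (fun i => HensSch.dOpen π (g i)) U (fun i => homOfLE (hle i))
      (fun v hv => Opens.mem_iSup.2 ⟨⟨v, hv⟩, hg ⟨v, hv⟩⟩) s (fun i j => by
        show mres P (inf_le_left) (s i) = mres P (inf_le_right) (s j)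
        apply hinj
        rw [hnat, hnat, hs, hs, mres_mres, mres_mres])
    refine ⟨x, Stalk.section_ext Q _ _ fun v hv => ?_⟩
    have h1 : mres P (hle ⟨v, hv⟩) x = s ⟨v, hv⟩ := hx ⟨v, hv⟩
    have h2 := congrArg (Stalk.germ Q v (hg ⟨v, hv⟩))
      ((hnat (hle ⟨v, hv⟩) x).symm.trans ((congrArg _ h1).trans (hs ⟨v, hv⟩)))
    rwa [Stalk.germ_res, Stalk.germ_res] at h2
  haveI : ∀ U, IsIso (((PresheafOfModules.toPresheaf _).map Φ.val).app U) := fun U => by
    rw [ConcreteCategory.isIso_iff_bijective]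
    exact hbij U.unop
  haveI : IsIso ((PresheafOfModules.toPresheaf _).map Φ.val) := NatIso.isIso_of_isIso_app _
  haveI : IsIso Φ.val := isIso_of_reflects_iso Φ.val (PresheafOfModules.toPresheaf _)
  haveI : IsIso ((SheafOfModules.forget _).map Φ) := ‹IsIso Φ.val›
  exact isIso_of_reflects_iso Φ (SheafOfModules.forget _)

/-- a map between two henselizations along the same basic open is bijective -/
theorem bijective_of_isHensAway {R : Type u} [CommRing R] {J : Ideal R} {g : R} {S₁ S₂ : Type u} [CommRing S₁]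
    [CommRing S₂] {φ₁ : R →+* S₁} {φ₂ : R →+* S₂} (h₁ : HensSch.IsHensAway R J g S₁ φ₁)
    (h₂ : HensSch.IsHensAway R J g S₂ φ₂) (c : S₁ →+* S₂) (hc : c.comp φ₁ = φ₂) : Function.Bijective c := by
  obtain ⟨d, hd, -⟩ := h₂.2.2 S₁ _ φ₁ h₁.2.1 le_rfl h₁.1
  obtain ⟨t, -, htu⟩ := h₂.2.2 S₂ _ φ₂ h₂.2.1 le_rfl h₂.1
  obtain ⟨t', -, htu'⟩ := h₁.2.2 S₁ _ φ₁ h₁.2.1 le_rfl h₁.1
  have e1 : c.comp d = RingHom.id _ :=
    (htu _ (show (c.comp d).comp φ₂ = φ₂ by rw [RingHom.comp_assoc, hd, hc])).trans
      (htu _ (RingHom.id_comp _)).symm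
  have e2 : d.comp c = RingHom.id _ :=
    (htu' _ (show (d.comp c).comp φ₁ = φ₁ by rw [RingHom.comp_assoc, hc, hd])).trans
      (htu' _ (RingHom.id_comp _)).symm
  exact ⟨fun x y hxy => (RingHom.congr_fun e2 x).symm.trans ((congrArg d hxy).trans (RingHom.congr_fun e2 y)),
    fun y => ⟨d y, RingHom.congr_fun e1 y⟩⟩

section Finite

variable {B : Type u} [CommRing B] [Algebra A B] {Y : LocallyRingedSpace.{u}}
  (πB : Y ⟶ HensSch.specLRS B) (φ : Y ⟶ X)
  (hφ : φ ≫ π = πB ≫ (Spec.map (CommRingCat.ofHom (algebraMap A B))).toLRSHom)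

include hφ in
theorem map_dOpen (f : A) :
    (Opens.map φ.base).obj (HensSch.dOpen π f) = HensSch.dOpen πB (algebraMap A B f) := by
  refine TopologicalSpace.Opens.ext (Set.ext fun y => ?_)
  show π.base (φ.base y) ∈ PrimeSpectrum.basicOpen f ↔ πB.base y ∈ PrimeSpectrum.basicOpen (algebraMap A B f)
  have e := congrArg (fun k : Y ⟶ HensSch.specLRS A => k.base y) hφ
  change π.base (φ.base y) = (Spec.map (CommRingCat.ofHom (algebraMap A B))).base (πB.base y) at e
  rw [e]
  exact Iff.rfl

/-- pull back of sections over a basic open -/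
def pullH (f : A) : H π f →+* H πB (algebraMap A B f) :=
  (Y.presheaf.map (homOfLE (map_dOpen π πB φ hφ f).ge).op).hom.comp (φ.c.app (op (HensSch.dOpen π f))).hom

theorem comp_c_app {Z W : LocallyRingedSpace.{u}} (g : Z ⟶ W) {U V : Opens W} (h : V ≤ U)
    (r : W.presheaf.obj (op U)) :
    (g.c.app (op V)).hom ((W.presheaf.map (homOfLE h).op).hom r) =
      (Z.presheaf.map ((Opens.map g.base).map (homOfLE h)).op).hom ((g.c.app (op U)).hom r) :=
  ConcreteCategory.congr_hom (g.c.naturality (homOfLE h).op) r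

include hφ in
theorem c₀_pull (a : A) :
    (φ.c.app (op (T₀ π))).hom (c₀ π a) = c₀ πB (algebraMap A B a) := by
  have h1 : ∀ {Z : LocallyRingedSpace.{u}} {R : Type u} [CommRing R] (p : Z ⟶ HensSch.specLRS R) (r : R),
      c₀ p r = (p.c.app (op ⊤)).hom ((Scheme.ΓSpecIso (CommRingCat.of R)).inv.hom r) := fun {Z R} _ p r => by
    show (Z.presheaf.map (𝟙 _)).hom _ = _
    rw [Z.presheaf.map_id]
    rfl
  rw [h1, h1]
  have h3 := congrArg (fun k => (ConcreteCategory.hom k) a)
    (Scheme.ΓSpecIso_inv_naturality (CommRingCat.ofHom (algebraMap A B)))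
  simp only [ConcreteCategory.comp_apply] at h3
  have h4 : ∀ r, (φ.c.app (op (T₀ π))).hom ((π.c.app (op ⊤)).hom r) =
      (πB.c.app (op ⊤)).hom (((Spec.map (CommRingCat.ofHom (algebraMap A B))).toLRSHom.c.app (op ⊤)).hom r) := fun r => by
    have e : (φ ≫ π).c.app (op ⊤) ≫ Y.presheaf.map (𝟙 _) =
        (πB ≫ (Spec.map (CommRingCat.ofHom (algebraMap A B))).toLRSHom).c.app (op ⊤) ≫ Y.presheaf.map (𝟙 _) := by
      generalize φ ≫ π = p, πB ≫ (Spec.map (CommRingCat.ofHom (algebraMap A B))).toLRSHom = p' at hφ ⊢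
      subst hφ
      rfl
    rw [Y.presheaf.map_id, Y.presheaf.map_id] at e
    exact congrArg (fun k => (ConcreteCategory.hom k) r) e
  rw [h4]
  exact congrArg _ h3.symm

theorem pullH_secMap (f a : A) :
    pullH π πB φ hφ f (HensSch.secMap π (PrimeSpectrum.basicOpen f) a) =
      HensSch.secMap πB (PrimeSpectrum.basicOpen (algebraMap A B f)) (algebraMap A B a) := by
  have h1 : ∀ {Z : LocallyRingedSpace.{u}} {R : Type u} [CommRing R] (p : Z ⟶ HensSch.specLRS R) (g r : R),
      HensSch.secMap p (PrimeSpectrum.basicOpen g) r = (Z.presheaf.map (homOfLE (le_T₀ p g)).op).hom (c₀ p r) :=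
    fun {Z R} _ p g r => by
      show (Z.presheaf.map _).hom _ = (Z.presheaf.map _).hom ((Z.presheaf.map _).hom _)
      rw [← ConcreteCategory.comp_apply, ← Z.presheaf.map_comp]
      rfl
  rw [h1, h1]
  show (Y.presheaf.map _).hom ((φ.c.app (op (HensSch.dOpen π f))).hom _) = _
  rw [comp_c_app φ (le_T₀ π f), c₀_pull π πB φ hφ]
  exact (ConcreteCategory.congr_hom (Y.presheaf.map_comp _ _) (c₀ πB (algebraMap A B a))).symm.trans rfl

include hφ in
theorem exists_iso_pushMod [Module.Finite A B] (hX : HensSch.IsSph A I X π)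
    (hY : HensSch.IsSph B (I.map (algebraMap A B)) Y πB) (N : ModuleCat.{u} B) :
    ∃ e : HensSch.sphTilde π ((ModuleCat.restrictScalars (algebraMap A B)).obj N) ≅
        (HensSch.pushMod φ).obj (HensSch.sphTilde πB N),
      ∀ n : N, (e.hom.val.app (op (T₀ π))).hom (θ π ((ModuleCat.restrictScalars (algebraMap A B)).obj N) n) =
        θ πB N n := by
  haveI := (hφ : φ ≫ π = _)
  let NA : ModuleCat.{u} A := (ModuleCat.restrictScalars (algebraMap A B)).obj N
  let μ : NA →+ (Stalk.pre ((HensSch.pushMod φ).obj (MT πB N))).obj (op (T₀ π)) :=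
    { toFun := fun n => θ πB N n
      map_zero' := map_zero ((adjC πB).unit.app N).hom
      map_add' := fun a b => θ_add πB N a b }
  obtain ⟨Φ, hΦ⟩ := exists_hom π NA μ fun a n => by
    show θ πB N (algebraMap A B a • (n : N)) = ((φ.c.app (op (T₀ π))).hom (c₀ π a)) • θ πB N n
    rw [θ_smul]
    exact congrArg (· • θ πB N n) (c₀_pull π πB φ hφ a).symm
  suffices hIso : IsIso Φ from ⟨@asIso _ _ _ _ Φ hIso, hΦ⟩
  refine isIso_of_basis π hX Φ fun f => ?_
  -- compare with the henselization over `B`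
  letI : Module A N := Module.compHom N (algebraMap A B)
  haveI : IsScalarTower A B N := IsScalarTower.of_algebraMap_smul fun _ _ => rfl
  letI : Algebra A (H πB (algebraMap A B f)) :=
      ((HensSch.secMap πB (PrimeSpectrum.basicOpen (algebraMap A B f))).comp (algebraMap A B)).toAlgebra
  let k : H π f →ₐ[A] H πB (algebraMap A B f) :=
    { pullH π πB φ hφ f with commutes' := fun a => pullH_secMap π πB φ hφ f a }
  haveI : IsScalarTower A B (H πB (algebraMap A B f)) := IsScalarTower.of_algebraMap_eq fun _ => rfl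
  let c : B ⊗[A] H π f →ₐ[A] H πB (algebraMap A B f) :=
    Algebra.TensorProduct.lift (IsScalarTower.toAlgHom A B _) k fun _ _ => Commute.all _ _
  have hc : Function.Bijective c := by
    refine bijective_of_isHensAway (Alg.isHensAway_tensor (hX.2.2 f) B) (hY.2.2 (algebraMap A B f)) c.toRingHom ?_
    refine RingHom.ext fun b => ?_
    show c (b ⊗ₜ[A] (1 : H π f)) = _
    simp only [c, Algebra.TensorProduct.lift_tmul, map_one, mul_one]
    rfl
  let cB : B ⊗[A] H π f ≃ₗ[B] H πB (algebraMap A B f) :=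
    LinearEquiv.ofBijective
      ({ toFun := c
         map_add' := map_add c
         map_smul' := fun b x => by
           show c (b • x) = b • c x
           rw [show b • x = (b ⊗ₜ[A] (1 : H π f)) * x from by
             rw [Algebra.smul_def]; rfl, map_mul, Algebra.smul_def]
           congr 1
           simp only [c, Algebra.TensorProduct.lift_tmul, map_one, mul_one]
           rfl } : B ⊗[A] H π f →ₗ[B] H πB (algebraMap A B f)) hc
  let E : H π f ⊗[A] N ≃+ H πB (algebraMap A B f) ⊗[B] N :=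
    (TensorProduct.comm A (H π f) N).toAddEquiv.trans
      ((TensorProduct.AlgebraTensorModule.cancelBaseChange A B B N (H π f)).symm.toAddEquiv.trans
        ((TensorProduct.comm B N (B ⊗[A] H π f)).toAddEquiv.trans (cB.rTensor N).toAddEquiv))
  have hE : ∀ (b : H π f) (n : N), E (b ⊗ₜ n) = pullH π πB φ hφ f b ⊗ₜ n := fun b n => by
    show cB.rTensor N (TensorProduct.comm B N (B ⊗[A] H π f)
      ((TensorProduct.AlgebraTensorModule.cancelBaseChange A B B N (H π f)).symm (n ⊗ₜ b))) = _
    rw [show (TensorProduct.AlgebraTensorModule.cancelBaseChange A B B N (H π f)).symm (n ⊗ₜ b) =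
      n ⊗ₜ[B] ((1 : B) ⊗ₜ[A] b) from (LinearEquiv.symm_apply_eq _).2 (by
        rw [TensorProduct.AlgebraTensorModule.cancelBaseChange_tmul, one_smul])]
    show c ((1 : B) ⊗ₜ[A] b) ⊗ₜ[B] n = _
    simp only [c, Algebra.TensorProduct.lift_tmul, map_one, one_mul]
    rfl
  -- the map on sections
  have hle := (map_dOpen π πB φ hφ f).ge
  have hm := mres_bijective_of_eq (X := Y) (MT πB N) hle (map_dOpen π πB φ hφ f)
  have hnat : ∀ x : (Stalk.pre (MT π NA)).obj (op (T₀ π)),
      (Φ.val.app (op (HensSch.dOpen π f))).hom (mres (MT π NA) (le_T₀ π f) x) =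
        mres (X := Y) (MT πB N) (U := T₀ πB) (V := (Opens.map φ.base).obj (HensSch.dOpen π f))
          (fun _ _ => trivial) ((Φ.val.app (op (T₀ π))).hom x) := fun x =>
    ConcreteCategory.congr_hom
      (((PresheafOfModules.toPresheaf _).map Φ.val).naturality (homOfLE (le_T₀ π f)).op) x
  have key : ∀ z : H π f ⊗[A] NA,
      mres (X := Y) (MT πB N) hle ((Φ.val.app (op (HensSch.dOpen π f))).hom (α₀ π NA f z)) =
        α₀ πB N (algebraMap A B f) (E z) := by
    intro z
    induction z using TensorProduct.induction_on with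
    | zero => rw [map_zero, map_zero, map_zero, map_zero]; exact map_zero _
    | tmul b n =>
      rw [α₀_tmul, map_smul]
      show mres (X := Y) (MT πB N) hle ((φ.c.app (op (HensSch.dOpen π f))).hom b •
        (show (Stalk.pre (MT πB N)).obj (op ((Opens.map φ.base).obj (HensSch.dOpen π f))) from
          (Φ.val.app (op (HensSch.dOpen π f))).hom (mres (MT π NA) (le_T₀ π f) (θ π NA n)))) = _
      rw [hnat, hΦ, mres_smul, mres_mres]
      exact ((congrArg (α₀ πB N _) (hE b n)).trans (α₀_tmul πB N _ _ _)).symm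
    | add z w hz hw =>
      rw [map_add, map_add, map_add, map_add, ← hz, ← hw]
      exact map_add _ _ _
  have h3 : Function.Bijective fun z : H π f ⊗[A] NA =>
      mres (X := Y) (MT πB N) hle ((Φ.val.app (op (HensSch.dOpen π f))).hom (α₀ π NA f z)) := by
    rw [funext key]
    exact (α₀_bijective πB N hY).comp E.bijective
  exact ((Function.Bijective.of_comp_iff' hm _).mp h3 |> fun h4 =>
    (Function.Bijective.of_comp_iff _ (α₀_bijective π NA hX)).mp h4)

end Finite

end Groth.L15.SphTilde
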