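import Groth.Agent.L15.SphTilde.Alg
import Groth.Agent.L05.HensSch.Stalk
import Groth.Agent.L05.HensSch.StalkHens
import Mathlib.LinearAlgebra.TensorProduct.DirectLimit
import Mathlib.LinearAlgebra.Quotient.Basic

/-!
# Sections of `M~` on an affine henselian spectrum
-/

set_option autoImplicit false
set_option linter.style.haveILetI false
set_option backward.isDefEq.respectTransparency false
set_option backward.isDefEq.respectTransparency.types false

universe u

open CategoryTheory Opposite TopologicalSpace AlgebraicGeometry TensorProduct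
open Groth.L05.HensSch

noncomputable section

namespace Groth.L15.SphTilde

variable {A : Type u} [CommRing A] {X : LocallyRingedSpace.{u}} (π : X ⟶ HensSch.specLRS A)

/-- sections over the preimage of a basic open -/
abbrev H (f : A) : Type u := X.presheaf.obj (op (HensSch.dOpen π f))

scoped instance algH (f : A) : Algebra A (H π f) := (HensSch.secMap π (PrimeSpectrum.basicOpen f)).toAlgebra

/-- restriction -/
def res {f g : A} (hle : HensSch.dOpen π g ≤ HensSch.dOpen π f) : H π f →ₐ[A] H π g :=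
  { (X.presheaf.map (homOfLE hle).op).hom with commutes' := fun a => StalkHens.secMap_res hle a }

theorem res_res {f g h : A} (h₁ : HensSch.dOpen π g ≤ HensSch.dOpen π f) (h₂ : HensSch.dOpen π h ≤ HensSch.dOpen π g)
    (b : H π f) : res π h₂ (res π h₁ b) = res π (h₂.trans h₁) b := by
  show (X.presheaf.map _).hom ((X.presheaf.map _).hom b) = (X.presheaf.map _).hom b
  rw [← ConcreteCategory.comp_apply, ← X.presheaf.map_comp]
  rfl

/-- the whole space, as a preimage -/
abbrev T₀ : Opens X := (Opens.map π.base).obj ⊤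

theorem le_T₀ (f : A) : HensSch.dOpen π f ≤ T₀ π := fun _ _ => trivial

/-- the adjunction between modules and `O_X`-modules -/
def adjC : HensSch.sphTildeFunctor π ⊣ HensSch.pushMod π ⋙ moduleSpecΓFunctor (R := CommRingCat.of A) :=
  tilde.adjunction.comp (HensSch.pullPushAdj π)

variable (M : ModuleCat.{u} A)

/-- the tilde module -/
abbrev MT : ModSite.Mod X.sheaf := HensSch.sphTilde π M

/-- the canonical map into global sections -/
def θ (m : M) : (Stalk.pre (MT π M)).obj (op (T₀ π)) := ((adjC π).unit.app M).hom m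

theorem θ_eq (m : M) : θ π M m =
    (((HensSch.pullPushAdj π).unit.app (tilde M)).val.app (op ⊤)).hom
      (((tilde.adjunction (R := CommRingCat.of A)).unit.app M).hom m) := by
  rfl

/-- scalars of `A` on global sections -/
abbrev c₀ : A →+* X.presheaf.obj (op (T₀ π)) := HensSch.secMap π ⊤

theorem c₀_smul_eq (G : ModSite.Mod X.sheaf) (a : A)
    (x : (Stalk.pre G).obj (op (T₀ π))) :
    (show (Stalk.pre G).obj (op (T₀ π)) from
      a • (show ((HensSch.pushMod π ⋙ moduleSpecΓFunctor (R := CommRingCat.of A)).obj G : Type u) from x)) =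
      c₀ π a • x := by
  change ((π.c.app (op ⊤)).hom ((Scheme.ΓSpecIso (CommRingCat.of A)).inv.hom a)) • x = _
  congr 1
  show _ = (X.presheaf.map (𝟙 (op (T₀ π)))).hom _
  rw [X.presheaf.map_id]
  rfl

theorem θ_smul (a : A) (m : M) : θ π M (a • m) = c₀ π a • θ π M m :=
  (((adjC π).unit.app M).hom.map_smul a m).trans (c₀_smul_eq π (MT π M) a _)

theorem θ_add (m n : M) : θ π M (m + n) = θ π M m + θ π M n := map_add ((adjC π).unit.app M).hom m n

theorem homEquiv_apply {G : ModSite.Mod X.sheaf} (φ : MT π M ⟶ G) (m : M) :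
    (((adjC π).homEquiv M G φ).hom m : (Stalk.pre G).obj (op (T₀ π))) = (φ.val.app (op (T₀ π))).hom (θ π M m) := by
  rw [Adjunction.homEquiv_unit]
  rfl

theorem hom_ext {G : ModSite.Mod X.sheaf} {φ ψ : MT π M ⟶ G}
    (h : ∀ m, (φ.val.app (op (T₀ π))).hom (θ π M m) = (ψ.val.app (op (T₀ π))).hom (θ π M m)) : φ = ψ := by
  apply ((adjC π).homEquiv M G).injective
  ext m
  exact (homEquiv_apply π M φ m).trans ((h m).trans (homEquiv_apply π M ψ m).symm)

theorem exists_hom {G : ModSite.Mod X.sheaf} (μ : M →+ (Stalk.pre G).obj (op (T₀ π)))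
    (hμ : ∀ (a : A) (m : M), μ (a • m) = c₀ π a • μ m) :
    ∃ φ : MT π M ⟶ G, ∀ m, (φ.val.app (op (T₀ π))).hom (θ π M m) = μ m := by
  let G' : ModuleCat.{u} A := (HensSch.pushMod π ⋙ moduleSpecΓFunctor (R := CommRingCat.of A)).obj G
  let μ' : M ⟶ G' :=
    ModuleCat.ofHom (X := M) (Y := G')
      { toFun := fun m => μ m
        map_add' := fun a b => μ.map_add a b
        map_smul' := fun a m => (hμ a m).trans (c₀_smul_eq π G a _).symm }
  refine ⟨((adjC π).homEquiv M G).symm μ', fun m => ?_⟩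
  rw [← homEquiv_apply, Equiv.apply_symm_apply]
  rfl

section Alpha

variable (f : A)

/-- restriction of sections of a module -/
abbrev mres (G : ModSite.Mod X.sheaf) {U V : Opens X} (h : V ≤ U) (x : (Stalk.pre G).obj (op U)) :
    (Stalk.pre G).obj (op V) :=
  ((Stalk.pre G).map (homOfLE h).op).hom x

theorem mres_smul (G : ModSite.Mod X.sheaf) {U V : Opens X} (h : V ≤ U) (r : X.presheaf.obj (op U))
    (x : (Stalk.pre G).obj (op U)) :
    mres G h (r • x) = (X.presheaf.map (homOfLE h).op).hom r • mres G h x :=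
  (Stalk.pre G).map_smul (homOfLE h).op r x

theorem mres_mres (G : ModSite.Mod X.sheaf) {U V W : Opens X} (h : V ≤ U) (h' : W ≤ V)
    (x : (Stalk.pre G).obj (op U)) : mres G h' (mres G h x) = mres G (h'.trans h) x :=
  ((Stalk.pre G).map_comp_apply (homOfLE h).op (homOfLE h').op x).symm

/-- the comparison map -/
def α₀ : H π f ⊗[A] M →+ (Stalk.pre (MT π M)).obj (op (HensSch.dOpen π f)) :=
  TensorProduct.liftAddHom
    { toFun := fun b =>
        { toFun := fun m => b • mres (MT π M) (le_T₀ π f) (θ π M m)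
          map_zero' := by
            rw [show θ π M 0 = 0 from map_zero ((adjC π).unit.app M).hom]
            exact (congrArg (b • ·) (map_zero _)).trans (smul_zero b)
          map_add' := fun m n => by
            rw [θ_add]
            exact (congrArg (b • ·) (map_add _ _ _)).trans (smul_add b _ _) }
      map_zero' := AddMonoidHom.ext fun m => zero_smul _ _
      map_add' := fun b b' => AddMonoidHom.ext fun m => add_smul b b' _ }
    (fun a b m => by
      show (a • b) • mres (MT π M) (le_T₀ π f) (θ π M m) = b • mres (MT π M) (le_T₀ π f) (θ π M (a • m))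
      rw [θ_smul, mres_smul, smul_smul, Algebra.smul_def, mul_comm]
      congr 2
      symm
      show (X.presheaf.map _).hom ((X.presheaf.map _).hom _) = (X.presheaf.map _).hom _
      rw [← ConcreteCategory.comp_apply, ← X.presheaf.map_comp]
      rfl)

theorem α₀_tmul (b : H π f) (m : M) : α₀ π M f (b ⊗ₜ m) = b • mres (MT π M) (le_T₀ π f) (θ π M m) := rfl

theorem α₀_smul (b : H π f) (z : H π f ⊗[A] M) : α₀ π M f (b • z) = b • α₀ π M f z := by
  induction z using TensorProduct.induction_on with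
  | zero => rw [smul_zero, map_zero, smul_zero]
  | tmul x m =>
    rw [TensorProduct.smul_tmul', α₀_tmul, α₀_tmul, smul_smul]
    rfl
  | add z w hz hw => rw [smul_add, map_add, map_add, smul_add, hz, hw]

theorem α₀_res {g : A} (hle : HensSch.dOpen π g ≤ HensSch.dOpen π f) (z : H π f ⊗[A] M) :
    α₀ π M g ((res π hle).toLinearMap.rTensor M z) = mres (MT π M) hle (α₀ π M f z) := by
  induction z using TensorProduct.induction_on with
  | zero => rw [map_zero, map_zero, map_zero]; exact (map_zero _).symm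
  | tmul x m =>
    rw [LinearMap.rTensor_tmul, α₀_tmul, α₀_tmul, mres_smul, mres_mres]
    rfl
  | add z w hz hw => rw [map_add, map_add, map_add, hz, hw]; exact (map_add _ _ _).symm

variable {f}

theorem exists_res_eq_zero {I : Ideal A} (hX : HensSch.IsSph A I X π) (v : X) (hv : v ∈ HensSch.dOpen π f)
    (z : H π f ⊗[A] M)
    (hz : letI : Algebra A (X.presheaf.stalk v) := ((X.presheaf.germ (T₀ π) v trivial).hom.comp (c₀ π)).toAlgebra
      (({ toFun := fun b => X.presheaf.germ _ v hv b
          map_add' := map_add _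
          map_smul' := fun a b => by
            show _ = a • _
            rw [Algebra.smul_def, Algebra.smul_def, map_mul]
            congr 1
            exact (StalkHens.germ_secMap v _ hv a).trans (StalkHens.germ_secMap v ⊤ trivial a).symm
        } : H π f →ₗ[A] X.presheaf.stalk v).rTensor M) z = 0) :
    ∃ (g : A) (_ : v ∈ HensSch.dOpen π g) (hle : HensSch.dOpen π g ≤ HensSch.dOpen π f),
      (res π hle).toLinearMap.rTensor M z = 0 := by
  classical
  letI : Algebra A (X.presheaf.stalk v) := ((X.presheaf.germ (T₀ π) v trivial).hom.comp (c₀ π)).toAlgebra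
  let J : Type u := {g : A // v ∈ HensSch.dOpen π g}
  letI : Preorder J :=
    { le := fun g g' => HensSch.dOpen π g'.1 ≤ HensSch.dOpen π g.1
      le_refl := fun g => le_rfl
      le_trans := fun a b c h h' => h'.trans h }
  haveI : IsDirectedOrder J := ⟨fun a b => by
    obtain ⟨g, hg, hle⟩ := StalkHens.exists_basic hX v (HensSch.dOpen π a.1 ⊓ HensSch.dOpen π b.1) ⟨a.2, b.2⟩
    exact ⟨⟨g, hg⟩, hle.trans inf_le_left, hle.trans inf_le_right⟩⟩
  haveI : Nonempty J := ⟨⟨f, hv⟩⟩
  let F : ∀ i j : J, i ≤ j → H π i.1 →ₗ[A] H π j.1 := fun i j h => (res π h).toLinearMap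
  haveI : DirectedSystem (fun i : J => H π i.1) (fun i j h => F i j h) :=
    ⟨fun i x => by
      show (X.presheaf.map (𝟙 _)).hom x = x
      rw [X.presheaf.map_id]
      rfl, fun i j k h h' x => res_res π h h' x⟩
  let gl : ∀ i : J, H π i.1 →ₗ[A] X.presheaf.stalk v := fun i =>
    { toFun := fun b => X.presheaf.germ _ v i.2 b
      map_add' := map_add _
      map_smul' := fun a b => by
        show _ = a • _
        rw [Algebra.smul_def, Algebra.smul_def, map_mul]
        congr 1
        exact (StalkHens.germ_secMap v _ i.2 a).trans (StalkHens.germ_secMap v ⊤ trivial a).symm }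
  have hgl : ∀ (i j : J) (h : i ≤ j) (x : H π i.1), gl j (F i j h x) = gl i x := fun i j h x =>
    TopCat.Presheaf.germ_res_apply X.presheaf _ v j.2 x
  let Ψ : Module.DirectLimit (fun i : J => H π i.1) F →ₗ[A] X.presheaf.stalk v :=
    Module.DirectLimit.lift A J _ F gl hgl
  have hinj : Function.Injective Ψ := by
    rw [injective_iff_map_eq_zero]
    intro p hp
    obtain ⟨i, b, rfl⟩ := Module.DirectLimit.exists_of p
    rw [Module.DirectLimit.lift_of] at hp
    obtain ⟨W, hW, i₁, i₂, e⟩ := TopCat.Presheaf.germ_eq (F := X.presheaf) v i.2 i.2 b 0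
      (hp.trans (map_zero _).symm)
    obtain ⟨g, hg, hle⟩ := StalkHens.exists_basic hX v W hW
    rw [← Module.DirectLimit.of_f (hij := show i ≤ ⟨g, hg⟩ from hle.trans i₁.le),
      show F i ⟨g, hg⟩ (hle.trans i₁.le) b = 0 from ?_, map_zero]
    show (X.presheaf.map (i₁.op ≫ (homOfLE hle).op)).hom b = 0
    rw [X.presheaf.map_comp, CommRingCat.comp_apply, e, map_zero, map_zero]
  have hsurj : Function.Surjective Ψ := fun p => by
    obtain ⟨W, hW, b, rfl⟩ := TopCat.Presheaf.exists_germ_eq (F := X.presheaf) (x := v) p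
    obtain ⟨g, hg, hle⟩ := StalkHens.exists_basic hX v W hW
    exact ⟨Module.DirectLimit.of A J (fun i : J => H π i.1) F ⟨g, hg⟩ ((X.presheaf.map (homOfLE hle).op).hom b),
      (Module.DirectLimit.lift_of _ _ _).trans (TopCat.Presheaf.germ_res_apply X.presheaf _ v hg b)⟩
  let e := (LinearEquiv.ofBijective Ψ ⟨hinj, hsurj⟩).rTensor M
  have hz' : (Module.DirectLimit.of A J (fun i : J => H π i.1) F ⟨f, hv⟩).rTensor M z = 0 := by
    apply e.injective
    rw [map_zero]
    show Ψ.rTensor M _ = 0
    rw [← LinearMap.comp_apply, ← LinearMap.rTensor_comp,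
      show Ψ ∘ₗ Module.DirectLimit.of A J (fun i : J => H π i.1) F ⟨f, hv⟩ = gl ⟨f, hv⟩ from
        LinearMap.ext fun x => Module.DirectLimit.lift_of (f := F) gl hgl x]
    exact hz
  have h2 := congrArg (TensorProduct.directLimitLeft F M) hz'
  rw [TensorProduct.directLimitLeft_rTensor_of, map_zero] at h2
  obtain ⟨j, hij, hj⟩ := Module.DirectLimit.of.zero_exact h2
  exact ⟨j.1, j.2, hij, hj⟩

theorem exists_cover_eq_top {I : Ideal A} (hX : HensSch.IsSph A I X π) {ι : Type u} (g : ι → A)
    (hg : ∀ v ∈ HensSch.dOpen π f, ∃ i, v ∈ HensSch.dOpen π (g i)) :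
    I.map (algebraMap A (Localization.Away f)) ⊔
      Ideal.span (Set.range fun i => algebraMap A (Localization.Away f) (g i)) = ⊤ := by
  by_contra hne
  obtain ⟨P, hP, hle⟩ := Ideal.exists_le_maximal _ hne
  haveI := hP
  have hI : I ≤ P.comap (algebraMap A _) := Ideal.map_le_iff_le_comap.mp (le_sup_left.trans hle)
  have hmem : (⟨P.comap (algebraMap A _), inferInstance⟩ : PrimeSpectrum A) ∈ Set.range π.base := by
    rw [hX.2.1]
    exact hI
  obtain ⟨v, hv⟩ := hmem
  have hvf : v ∈ HensSch.dOpen π f := by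
    show (π.base v : PrimeSpectrum A) ∈ PrimeSpectrum.basicOpen f
    rw [hv]
    exact fun h => hP.ne_top (Ideal.eq_top_of_isUnit_mem _ h (IsLocalization.Away.algebraMap_isUnit f))
  obtain ⟨i, hi⟩ := hg v hvf
  change (π.base v : PrimeSpectrum A) ∈ PrimeSpectrum.basicOpen (g i) at hi
  rw [hv] at hi
  exact hi (le_sup_right.trans hle (Ideal.subset_span ⟨i, rfl⟩))

theorem dOpen_mul_le_left (g g' : A) : HensSch.dOpen π (g * g') ≤ HensSch.dOpen π g :=
  fun _ h => PrimeSpectrum.basicOpen_mul_le_left g g' h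

theorem dOpen_mul_le_right (g g' : A) : HensSch.dOpen π (g * g') ≤ HensSch.dOpen π g' :=
  fun _ h => PrimeSpectrum.basicOpen_mul_le_right g g' h

/-- gluing in `M ⊗ H` -/
theorem existsUnique_of_cover {I : Ideal A} (hX : HensSch.IsSph A I X π) {ι : Type u} (g : ι → A)
    (hle : ∀ i, HensSch.dOpen π (g i) ≤ HensSch.dOpen π f)
    (hg : ∀ v ∈ HensSch.dOpen π f, ∃ i, v ∈ HensSch.dOpen π (g i))
    (s : ∀ i, H π (g i) ⊗[A] M)
    (hs : ∀ i j, (res π (dOpen_mul_le_left π (g i) (g j))).toLinearMap.rTensor M (s i) =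
      (res π (dOpen_mul_le_right π (g i) (g j))).toLinearMap.rTensor M (s j)) :
    ∃! x : H π f ⊗[A] M, ∀ i, (res π (hle i)).toLinearMap.rTensor M x = s i :=
  Alg.existsUnique_glue_module M (exists_cover_eq_top π hX g hg) (hX.2.2 f) (fun i => hX.2.2 (g i))
    (fun i j => hX.2.2 (g i * g j)) (fun i => res π (hle i))
    (fun i j => res π (dOpen_mul_le_left π (g i) (g j))) (fun i j => res π (dOpen_mul_le_right π (g i) (g j))) s hs

theorem α₀_injective {I : Ideal A} (hX : HensSch.IsSph A I X π) : Function.Injective (α₀ π M f) := by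
  rw [injective_iff_map_eq_zero]
  intro z hz
  have key : ∀ v : {v : X // v ∈ HensSch.dOpen π f}, ∃ (g : A) (_ : v.1 ∈ HensSch.dOpen π g)
      (hle : HensSch.dOpen π g ≤ HensSch.dOpen π f), (res π hle).toLinearMap.rTensor M z = 0 := by
    rintro ⟨v, hv⟩
    refine exists_res_eq_zero π M hX v hv z ?_
    letI : Algebra A (X.presheaf.stalk v) := ((X.presheaf.germ (T₀ π) v trivial).hom.comp (c₀ π)).toAlgebra
    let N : ModuleCat.{u} (X.presheaf.stalk v) := ModuleCat.of _ (X.presheaf.stalk v ⊗[A] M)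
    let μ : M →+ (Stalk.pre (Stalk.sky v N)).obj (op (T₀ π)) :=
      { toFun := fun m => (fun _ => (1 : X.presheaf.stalk v) ⊗ₜ[A] m : Stalk.Sec v N (T₀ π))
        map_zero' := funext fun _ => TensorProduct.tmul_zero _ _
        map_add' := fun m n => funext fun _ => TensorProduct.tmul_add _ _ _ }
    obtain ⟨φ, hφ⟩ := exists_hom π M μ fun a m => funext fun _ => by
      show (1 : X.presheaf.stalk v) ⊗ₜ[A] (a • m) =
        (X.presheaf.germ (T₀ π) v trivial (c₀ π a) : X.presheaf.stalk v) • ((1 : X.presheaf.stalk v) ⊗ₜ[A] m)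
      rw [TensorProduct.tmul_smul, TensorProduct.smul_tmul', TensorProduct.smul_tmul', Algebra.smul_def]
      rfl
    have hev : ∀ w : H π f ⊗[A] M,
        ((φ.val.app (op (HensSch.dOpen π f))).hom (α₀ π M f w) : Stalk.Sec v N (HensSch.dOpen π f)) ⟨hv⟩ =
        ({ toFun := fun b => X.presheaf.germ _ v hv b
           map_add' := map_add _
           map_smul' := fun a b => by
            show _ = a • _
            rw [Algebra.smul_def, Algebra.smul_def, map_mul]
            congr 1
            exact (StalkHens.germ_secMap v _ hv a).trans (StalkHens.germ_secMap v ⊤ trivial a).symm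
          } : H π f →ₗ[A] X.presheaf.stalk v).rTensor M w := by
      intro w
      induction w using TensorProduct.induction_on with
      | zero => rw [map_zero, map_zero, map_zero]; rfl
      | tmul b m =>
        rw [α₀_tmul, map_smul]
        have hn := congrFun (ConcreteCategory.congr_hom
          (((PresheafOfModules.toPresheaf _).map φ.val).naturality (homOfLE (le_T₀ π f)).op) (θ π M m)) ⟨hv⟩
        change ((φ.val.app (op (HensSch.dOpen π f))).hom (mres (MT π M) (le_T₀ π f) (θ π M m)) :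
          Stalk.Sec v N _) ⟨hv⟩ = ((φ.val.app (op (T₀ π))).hom (θ π M m) : Stalk.Sec v N _) ⟨trivial⟩ at hn
        rw [hφ] at hn
        show (X.presheaf.germ _ v hv b : X.presheaf.stalk v) •
          ((φ.val.app (op (HensSch.dOpen π f))).hom (mres (MT π M) (le_T₀ π f) (θ π M m)) :
            Stalk.Sec v N _) ⟨hv⟩ = _
        rw [hn]
        show (X.presheaf.germ _ v hv b : X.presheaf.stalk v) • ((1 : X.presheaf.stalk v) ⊗ₜ[A] m) = _
        rw [TensorProduct.smul_tmul', smul_eq_mul, mul_one]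
        rfl
      | add w w' hw hw' =>
        rw [map_add, map_add, map_add, ← hw, ← hw']
        rfl
    rw [← hev, hz, map_zero]
    rfl
  choose g hgv hle hg using key
  obtain ⟨x, -, hu⟩ := existsUnique_of_cover π M hX g hle (fun v hv => ⟨⟨v, hv⟩, hgv ⟨v, hv⟩⟩)
    (fun _ => 0) (fun i j => by rw [map_zero, map_zero])
  exact (hu z hg).trans (hu 0 fun i => map_zero _).symm

theorem exists_local {I : Ideal A} (hX : HensSch.IsSph A I X π) (v : X) (hv : v ∈ HensSch.dOpen π f)
    (p : Stalk.St (MT π M) v) :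
    ∃ (g : A) (hg : v ∈ HensSch.dOpen π g) (_ : HensSch.dOpen π g ≤ HensSch.dOpen π f) (z : H π g ⊗[A] M),
      Stalk.germ (MT π M) v hg (α₀ π M g z) = p := by
  let K : Submodule (X.presheaf.stalk v) ((Stalk.F X v).obj (MT π M)) :=
    Submodule.span _ (Set.range fun m : M => Stalk.germ (MT π M) v (U := T₀ π) trivial (θ π M m))
  let q : (Stalk.F X v).obj (MT π M) ⟶ ModuleCat.of _ ((Stalk.F X v).obj (MT π M) ⧸ K) := ModuleCat.ofHom K.mkQ
  have hq : Stalk.toHom (MT π M) v q = Stalk.toHom (MT π M) v (ModuleCat.ofHom 0) := by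
    refine hom_ext π M fun m => funext fun h => ?_
    show K.mkQ (Stalk.germ (MT π M) v h.down (θ π M m)) = 0
    exact (Submodule.Quotient.mk_eq_zero K).mpr (Submodule.subset_span ⟨m, rfl⟩)
  have hp : p ∈ K := by
    obtain ⟨W, hW, s, rfl⟩ := Stalk.exists_germ _ v p
    have h := congrArg (fun k => Stalk.ofHom v k (Stalk.germ (MT π M) v hW s)) hq
    have h' := (Stalk.ofHom_germ v (Stalk.toHom (MT π M) v q) hW s).symm.trans
      (h.trans (Stalk.ofHom_germ v (Stalk.toHom (MT π M) v (ModuleCat.ofHom 0)) hW s))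
    exact (Submodule.Quotient.mk_eq_zero K).mp h'
  refine Submodule.span_induction (p := fun x _ => ∃ (g : A) (hg : v ∈ HensSch.dOpen π g)
      (_ : HensSch.dOpen π g ≤ HensSch.dOpen π f) (z : H π g ⊗[A] M),
      Stalk.germ (MT π M) v hg (α₀ π M g z) = x) ?_ ?_ ?_ ?_ hp
  · rintro _ ⟨m, rfl⟩
    refine ⟨f, hv, le_rfl, (1 : H π f) ⊗ₜ m, ?_⟩
    rw [α₀_tmul, one_smul]
    exact Stalk.germ_res (MT π M) v (homOfLE (le_T₀ π f)) hv _
  · exact ⟨f, hv, le_rfl, 0, by rw [map_zero, map_zero]⟩
  · rintro x y - - ⟨g, hg, hgf, z, rfl⟩ ⟨g', hg', -, z', rfl⟩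
    obtain ⟨k, hk, hle⟩ := StalkHens.exists_basic hX v (HensSch.dOpen π g ⊓ HensSch.dOpen π g') ⟨hg, hg'⟩
    refine ⟨k, hk, (hle.trans inf_le_left).trans hgf, (res π (hle.trans inf_le_left)).toLinearMap.rTensor M z +
      (res π (hle.trans inf_le_right)).toLinearMap.rTensor M z', ?_⟩
    rw [map_add, map_add, α₀_res, α₀_res]
    congr 1 <;> exact Stalk.germ_res (MT π M) v _ hk _
  · rintro r x - ⟨g, hg, hgf, z, rfl⟩
    obtain ⟨W, hW, c, rfl⟩ := TopCat.Presheaf.exists_germ_eq (F := X.presheaf) (x := v) r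
    obtain ⟨k, hk, hle⟩ := StalkHens.exists_basic hX v (HensSch.dOpen π g ⊓ W) ⟨hg, hW⟩
    refine ⟨k, hk, (hle.trans inf_le_left).trans hgf,
      ((X.presheaf.map (homOfLE (hle.trans inf_le_right)).op).hom c : H π k) •
        (res π (hle.trans inf_le_left)).toLinearMap.rTensor M z, ?_⟩
    rw [α₀_smul, α₀_res, Stalk.germ_smul]
    congr 1
    · exact TopCat.Presheaf.germ_res_apply X.presheaf _ v hk c
    · exact Stalk.germ_res (MT π M) v _ hk _

theorem α₀_bijective {I : Ideal A} (hX : HensSch.IsSph A I X π) : Function.Bijective (α₀ π M f) := by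
  refine ⟨α₀_injective π M hX, fun s => ?_⟩
  have key : ∀ v : {v : X // v ∈ HensSch.dOpen π f}, ∃ (g : A) (_ : v.1 ∈ HensSch.dOpen π g)
      (hle : HensSch.dOpen π g ≤ HensSch.dOpen π f) (z : H π g ⊗[A] M),
      α₀ π M g z = mres (MT π M) hle s := by
    rintro ⟨v, hv⟩
    obtain ⟨g, hg, hgf, z, hz⟩ := exists_local π M hX v hv (Stalk.germ (MT π M) v hv s)
    obtain ⟨W, hW, i₁, i₂, e⟩ := TopCat.Presheaf.germ_eq (F := PresheafOfModules.presheaf (Stalk.pre (MT π M)))
      v hg hv (α₀ π M g z) s hz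
    obtain ⟨k, hk, hle⟩ := StalkHens.exists_basic hX v W hW
    refine ⟨k, hk, hle.trans i₂.le, (res π (hle.trans i₁.le)).toLinearMap.rTensor M z, ?_⟩
    rw [α₀_res]
    have e1 := congrArg (mres (MT π M) hle) (show mres (MT π M) i₁.le (α₀ π M g z) = mres (MT π M) i₂.le s from e)
    rwa [mres_mres, mres_mres] at e1
  choose g hgv hle z hz using key
  obtain ⟨x, hx, -⟩ := existsUnique_of_cover π M hX g hle (fun v hv => ⟨⟨v, hv⟩, hgv ⟨v, hv⟩⟩) z fun i j => by
    apply α₀_injective π M hX
    rw [α₀_res, α₀_res, hz, hz, mres_mres, mres_mres]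
  refine ⟨x, Stalk.section_ext (MT π M) _ _ fun v hv => ?_⟩
  have h1 := congrArg (Stalk.germ (MT π M) v (hgv ⟨v, hv⟩))
    ((α₀_res π M f (hle ⟨v, hv⟩) x).symm.trans ((congrArg _ (hx ⟨v, hv⟩)).trans (hz ⟨v, hv⟩)))
  rwa [Stalk.germ_res, Stalk.germ_res] at h1

end Alpha

end Groth.L15.SphTilde
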